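import Groth.Agent.Lib.KoszulSh.Algebra
import Groth.Agent.Lib.Modules.Stalk
import Groth.Agent.Lib.Modules.ZeroLocus
import Groth.Agent.Lib.Modules.AffineSections
import Mathlib.RingTheory.Regular.Flat
import Mathlib.RingTheory.Localization.Module
import Mathlib.Algebra.Homology.ShortComplex.Ab

/-!
# Koszul complexes of cosections on affine opens
-/

set_option autoImplicit false
set_option linter.style.haveILetI false
universe u

open CategoryTheory CategoryTheory.Limits AlgebraicGeometry Opposite TopologicalSpace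

namespace Groth.Agent.Lib.KoszulSh.Sections

open Groth.Agent.Lib Groth.Agent.Lib.QCoh.Localizing

variable {X : Scheme.{u}} {E : X.Modules} {s : E ⟶ Coh.structureModule X}

/-- The differential on an affine open is contraction with the cosection. -/
theorem d_app (C : KoszSh.Cx E s) (p : ℕ) (U : X.affineOpens) (x : Γ(C.K.X (p + 1), U.1)) :
    C.loc p U ((C.K.d (p + 1) p).app U.1 x) =
      Algebra.d (KoszSh.secForm s U.1) p (C.loc (p + 1) U x) := by
  obtain ⟨w, rfl⟩ := (C.loc (p + 1) U).symm.surjective x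
  rw [LinearEquiv.apply_symm_apply]
  have hw : w ∈ Submodule.span Γ(X, U.1) (Set.range (exteriorPower.ιMulti Γ(X, U.1) (p + 1))) := by
    rw [exteriorPower.ιMulti_span]; trivial
  induction hw using Submodule.span_induction with
  | mem w hw =>
    obtain ⟨e, rfl⟩ := hw
    rw [C.rule, LinearEquiv.apply_symm_apply, Algebra.d_ιMulti]
  | zero => simp
  | add a b _ _ ha hb => simp only [map_add, ha, hb]
  | smul r a _ ha => simp only [map_smul, Scheme.Modules.Hom.app_smul, ha]

/-- The cosection on sections commutes with restriction. -/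
theorem secForm_res {U V : X.Opens} (h : V ≤ U) (e : Γ(E, U)) :
    KoszSh.secForm s V (res E h e) = resR h (KoszSh.secForm s U e) :=
  (res_app s h e).symm

/-- Bases restrict to bases on basic opens. -/
theorem exists_basis_basicOpen [E.IsQuasicoherent] {U : X.Opens} (hU : IsAffineOpen U) (f : Γ(X, U))
    {n : ℕ} (b : Module.Basis (Fin n) Γ(X, U) Γ(E, U)) :
    ∃ b' : Module.Basis (Fin n) Γ(X, X.basicOpen f) Γ(E, X.basicOpen f),
      ∀ i, b' i = res E (X.basicOpen_le f) (b i) := by
  let _ := Modules.ZeroLocus.modBasic f E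
  let _ := (resR (X.basicOpen_le f)).toAlgebra
  have hloc : IsLocalization.Away f Γ(X, X.basicOpen f) := hU.isLocalization_basicOpen f
  haveI := Modules.ZeroLocus.isLocalizedModule_resBasic hU f E
  haveI : IsScalarTower Γ(X, U) Γ(X, X.basicOpen f) Γ(E, X.basicOpen f) :=
    IsScalarTower.of_algebraMap_smul fun _ _ => rfl
  exact ⟨b.ofIsLocalizedModule Γ(X, X.basicOpen f) (Submonoid.powers f) (Modules.ZeroLocus.resBasic f E),
    fun i => b.ofIsLocalizedModule_apply _ _ _ i⟩

/-- Weakly regular values restrict to basic opens. -/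
theorem exists_regular_basicOpen [E.IsQuasicoherent] {U : X.Opens} (hU : IsAffineOpen U) (f : Γ(X, U))
    {n : ℕ} (b : Module.Basis (Fin n) Γ(X, U) Γ(E, U))
    (hb : RingTheory.Sequence.IsWeaklyRegular Γ(X, U) (List.ofFn fun k => KoszSh.secForm s U (b k))) :
    ∃ b' : Module.Basis (Fin n) Γ(X, X.basicOpen f) Γ(E, X.basicOpen f),
      RingTheory.Sequence.IsWeaklyRegular Γ(X, X.basicOpen f)
        (List.ofFn fun k => KoszSh.secForm s (X.basicOpen f) (b' k)) := by
  obtain ⟨b', hb'⟩ := exists_basis_basicOpen hU f b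
  refine ⟨b', ?_⟩
  let _ := (resR (X.basicOpen_le f)).toAlgebra
  have hloc : IsLocalization.Away f Γ(X, X.basicOpen f) := hU.isLocalization_basicOpen f
  have h := hb.of_isLocalization Γ(X, X.basicOpen f) (Submonoid.powers f)
  rw [List.map_ofFn] at h
  simp only [hb', secForm_res]
  exact h

/-- Higher homology vanishes where the cosection takes weakly regular values on bases. -/
theorem isZero_homology [E.IsQuasicoherent] (C : KoszSh.Cx E s) (n : ℕ)
    (hs : ∀ x : X, ∃ U : X.affineOpens, x ∈ U.1 ∧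
      ∃ b : Module.Basis (Fin n) Γ(X, U.1) Γ(E, U.1),
        RingTheory.Sequence.IsWeaklyRegular Γ(X, U.1) (List.ofFn fun k => KoszSh.secForm s U.1 (b k)))
    (q : ℕ) : IsZero (C.K.homology (q + 1)) := by
  rw [← HomologicalComplex.exactAt_iff_isZero_homology,
    C.K.exactAt_iff' (q + 2) (q + 1) q (by simp) (by simp), Modules.Stalk.exact_iff_stalk]
  intro pt
  rw [ShortComplex.ab_exact_iff]
  intro v hv
  obtain ⟨W, hW, x, rfl⟩ := TopCat.Presheaf.exists_germ_eq (C.K.X (q + 1)).presheaf v
  rw [show ((C.K.sc' (q + 2) (q + 1) q).map (Modules.Stalk.stalkFunctor X pt)).g =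
    (Modules.Stalk.stalkFunctor X pt).map (C.K.d (q + 1) q) from rfl] at hv
  replace hv := (Modules.Stalk.stalkFunctor_map_germ pt (C.K.d (q + 1) q) hW x).symm.trans hv
  replace hv : (C.K.X q).presheaf.germ W pt hW _ = (C.K.X q).presheaf.germ W pt hW 0 := hv.trans (map_zero _).symm
  obtain ⟨W', hW', i₁, i₂, hW'eq⟩ := TopCat.Presheaf.germ_eq (C.K.X q).presheaf pt hW hW _ _ hv
  obtain ⟨U, hU, b, hb⟩ := hs pt
  obtain ⟨f, hfW, hptf⟩ := U.2.exists_basicOpen_le (⟨pt, hW'⟩ : W') hU
  let V : X.affineOpens := ⟨X.basicOpen f, U.2.basicOpen f⟩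
  have hVW : V.1 ≤ W := hfW.trans i₁.le
  have hdx : (C.K.d (q + 1) q).app V.1 (res (C.K.X (q + 1)) hVW x) = 0 := by
    rw [← res_app, ← res_res (M := C.K.X q) i₁.le hfW,
      show res (C.K.X q) i₁.le ((C.K.d (q + 1) q).app W x) = 0 from hW'eq.trans (map_zero _), map_zero]
  obtain ⟨b', hb'⟩ := exists_regular_basicOpen (s := s) U.2 f b hb
  obtain ⟨y, hy⟩ := Algebra.exact_d b' (KoszSh.secForm s V.1) hb' q
    (x := C.loc (q + 1) V (res (C.K.X (q + 1)) hVW x)) (by rw [← d_app, hdx, map_zero])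
  refine ⟨(C.K.X (q + 2)).presheaf.germ V.1 pt hptf ((C.loc (q + 2) V).symm y), ?_⟩
  refine (Modules.Stalk.stalkFunctor_map_germ pt (C.K.d (q + 2) (q + 1)) hptf _).trans ?_
  have : (C.K.d (q + 2) (q + 1)).app V.1 ((C.loc (q + 2) V).symm y) = res (C.K.X (q + 1)) hVW x :=
    (C.loc (q + 1) V).injective (by rw [d_app C (q + 1) V, LinearEquiv.apply_symm_apply, hy])
  rw [this]
  exact TopCat.Presheaf.germ_res_apply (C.K.X (q + 1)).presheaf (homOfLE hVW) pt hptf x

end Groth.Agent.Lib.KoszulSh.Sections
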