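import Groth.Agent.Lib.KoszulSh.Functorial
import Groth.Agent.Lib.Modules.TensorGen
import Groth.Agent.Lib.Pinch.StalkFrame
import Mathlib.LinearAlgebra.ExteriorPower.Basis

/-!
# Koszul complexes of a twisted cosection
-/

set_option autoImplicit false
universe u

open CategoryTheory CategoryTheory.Limits AlgebraicGeometry Opposite TopologicalSpace

namespace Groth.Agent.Lib.KoszulSh.Twist

open Groth.Agent.Lib Modules.TensorGen
open Groth.Agent.Lib.TensorMod.Dual (rs rf rs_smul)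

section Ring

variable {R : Type u} [CommRing R] {M N : Type u} [AddCommGroup M] [Module R M] [AddCommGroup N] [Module R N]

theorem d_map (f : M →ₗ[R] N) (φ : Module.Dual R N) (p : ℕ) (w : ↥(⋀[R]^(p + 1) M)) :
    Algebra.d φ p (exteriorPower.map (p + 1) f w) = exteriorPower.map p f (Algebra.d (φ ∘ₗ f) p w) := by
  have h : Algebra.d φ p ∘ₗ exteriorPower.map (p + 1) f = exteriorPower.map p f ∘ₗ Algebra.d (φ ∘ₗ f) p := by
    refine exteriorPower.linearMap_ext ?_
    ext e
    simp only [LinearMap.compAlternatingMap_apply, LinearMap.comp_apply, exteriorPower.map_apply_ιMulti,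
      Algebra.d_ιMulti, KoszSh.dGen, map_sum, map_smul]
    rfl
  exact LinearMap.congr_fun h w

theorem d_smul (a : R) (φ : Module.Dual R M) (p : ℕ) (w : ↥(⋀[R]^(p + 1) M)) :
    Algebra.d (a • φ) p w = a • Algebra.d φ p w := by
  refine Subtype.ext ?_
  show CliffordAlgebra.contractLeft (a • φ) (w : ExteriorAlgebra R M) = _
  rw [map_smul]
  rfl

theorem map_injective_of_equiv (e : M ≃ₗ[R] N) (p : ℕ) :
    Function.Injective (exteriorPower.map p e.toLinearMap) := by
  refine Function.LeftInverse.injective (g := exteriorPower.map p e.symm.toLinearMap) fun w => ?_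
  rw [← LinearMap.comp_apply, ← exteriorPower.map_comp, e.symm_comp, exteriorPower.map_id]
  rfl

theorem map_surjective_of_equiv (e : M ≃ₗ[R] N) (p : ℕ) :
    Function.Surjective (exteriorPower.map p e.toLinearMap) := by
  refine Function.RightInverse.surjective (g := exteriorPower.map p e.symm.toLinearMap) fun w => ?_
  rw [← LinearMap.comp_apply, ← exteriorPower.map_comp, e.comp_symm, exteriorPower.map_id]
  rfl

end Ring

variable {X : Scheme.{u}} {F L : X.Modules} {s : F ⟶ Coh.structureModule X}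
  {lam : Coh.structureModule X ⟶ L} {t : CohB1.tensorMod F L ⟶ Coh.structureModule X}

/-- The data on an affine open where `L` has a generator. -/
structure Chart (F L : X.Modules) where
  /-- The open. -/
  U : X.affineOpens
  /-- The generator. -/
  e : Γ(L, U.1)
  gen : TensorMod.Gen.IsGen L U.1 e
  n : ℕ
  /-- A basis. -/
  b : Module.Basis (Fin n) Γ(X, U.1) Γ(F, U.1)

theorem exists_chart (hF : FlatMod.IsFinLocFree F) (hL : PicF.IsInvertible L) {V : X.Opens} {x : X} (hx : x ∈ V) :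
    ∃ c : Chart F L, x ∈ c.U.1 ∧ c.U.1 ≤ V := by
  obtain ⟨U₁, e, hx₁, he⟩ := TensorMod.Gen.isInvertible_iff.1 hL x
  obtain ⟨U₂, n, f, hx₂, hf⟩ := Pinch.StalkFrame.exists_isFrame hF x
  obtain ⟨U, hUV, hxU⟩ := Modules.AffineHom.exists_affine (show x ∈ V ⊓ (U₁ ⊓ U₂) from ⟨hx, hx₁, hx₂⟩)
  have hU₂ : U.1 ≤ U₂ := hUV.trans (inf_le_right.trans inf_le_right)
  have hid : ∀ c : Fin n → Γ(X, U.1),
      Pinch.StalkFrame.comb f hU₂ c = ∑ i, c i • rs F hU₂ (f i) := fun c => rfl
  have hli : LinearIndependent Γ(X, U.1) fun i => rs F hU₂ (f i) :=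
    Fintype.linearIndependent_iff.2 fun c hc => congrFun (Pinch.StalkFrame.comb_injective hf hU₂
      (a₁ := c) (a₂ := 0) (by rw [hid, hid, hc]; simp))
  have hsp : ⊤ ≤ Submodule.span Γ(X, U.1) (Set.range fun i => rs F hU₂ (f i)) := fun v _ => by
    obtain ⟨c, rfl⟩ := Pinch.StalkFrame.comb_surjective hf hU₂ v
    rw [hid]
    exact Submodule.sum_mem _ fun i _ => Submodule.smul_mem _ _ (Submodule.subset_span ⟨i, rfl⟩)
  exact ⟨⟨U, rs L (hUV.trans (inf_le_right.trans inf_le_left)) e, he.res _, n, Module.Basis.mk hli hsp⟩,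
    hxU, hUV.trans inf_le_left⟩

variable (c : Chart F L)

/-- `f ↦ f ⊗ e`. -/
noncomputable def Chart.T : Γ(F, c.U.1) ≃ₗ[Γ(X, c.U.1)] Γ(CohB1.tensorMod F L, c.U.1) :=
  LinearEquiv.ofBijective (tg F c.e) (tg_bijective c.gen)

/-- The form `f ↦ t (f ⊗ e)`. -/
noncomputable def Chart.t' (t : CohB1.tensorMod F L ⟶ Coh.structureModule X) :
    Module.Dual Γ(X, c.U.1) Γ(F, c.U.1) :=
  KoszSh.secForm t c.U.1 ∘ₗ c.T.toLinearMap

/-- The power of the generator. -/
noncomputable def Chart.E (q : ℕ) : Γ(CohB1.tensorPow L q, c.U.1) := KoszTw.tprod L q c.U.1 fun _ => c.e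

theorem Chart.isGen_E (q : ℕ) : TensorMod.Gen.IsGen (CohB1.tensorPow L q) c.U.1 (c.E q) :=
  isGen_tprodConst c.gen q

/-- The coefficient of `λ(1)`. -/
noncomputable def Chart.a (lam : Coh.structureModule X ⟶ L) : Γ(X, c.U.1) :=
  (Ample.GenLocus.exists_coord c.gen (lam.app c.U.1 (TensorMod.Gen.one X c.U.1))).choose

theorem Chart.lam_eq (lam : Coh.structureModule X ⟶ L) (r : Γ(X, c.U.1)) :
    lam.app c.U.1 r = (r * c.a lam) • c.e := by
  rw [mul_smul]
  have h : lam.app c.U.1 (TensorMod.Gen.one X c.U.1) = c.a lam • c.e :=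
    (Ample.GenLocus.exists_coord c.gen (lam.app c.U.1 (TensorMod.Gen.one X c.U.1))).choose_spec
  rw [← h]
  exact TensorMod.Gen.app_eq_smul lam r

theorem Chart.secForm_eq (htri : KoszTw.TwistTriangle s lam t) :
    KoszSh.secForm s c.U.1 = c.a lam • c.t' t := by
  refine LinearMap.ext fun f => ?_
  have h := htri c.U.1 f c.e
  rw [show lam.app c.U.1 (t.app c.U.1 (SecTwist.tmul F L c.U.1 f c.e)) =
    (c.t' t f * c.a lam) • c.e from c.lam_eq lam _] at h
  have := (c.gen c.U.1 le_rfl).1 (a₁ := KoszSh.secForm s c.U.1 f) (a₂ := c.t' t f * c.a lam)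
    (by simp only [TensorMod.Dual.rs_self]; exact h.symm)
  rw [this, mul_comm]
  rfl

theorem Chart.a_regular [Mono lam] {r : Γ(X, c.U.1)} (h : c.a lam * r = 0) : r = 0 := by
  have h0 : lam.app c.U.1 r = 0 := by rw [c.lam_eq, mul_comm, h, zero_smul]
  refine TopCat.Presheaf.section_ext (⟨(Coh.structureModule X).presheaf, (Coh.structureModule X).isSheaf⟩ :
    TopCat.Sheaf AddCommGrpCat.{u} X) c.U.1 r (0 : Γ(Coh.structureModule X, c.U.1)) fun x hx => ?_
  refine (AddCommGrpCat.mono_iff_injective _).1 ((Modules.Stalk.mono_iff_stalk lam).1 inferInstance x) ?_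
  refine (Modules.Stalk.stalkFunctor_map_germ x lam hx _).trans (Eq.trans ?_
    (Modules.Stalk.stalkFunctor_map_germ x lam hx _).symm)
  rw [h0, map_zero (lam.app c.U.1).hom]

theorem Chart.smul_eq_zero [Mono lam] (q : ℕ) {w : ↥(⋀[Γ(X, c.U.1)]^q Γ(F, c.U.1))}
    (h : c.a lam • w = 0) : w = 0 := by
  let B := c.b.exteriorPower q
  apply B.repr.injective
  rw [map_zero]
  ext i
  refine c.a_regular (lam := lam) ?_
  have := congrArg (fun v => B.repr v i) h
  simpa using this

variable {C : KoszSh.Cx F s} {D : KoszSh.Cx (CohB1.tensorMod F L) t}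

theorem Chart.θ_apply {q : ℕ} (θ : KoszTw.CxDecData C D q) (w : ↥(⋀[Γ(X, c.U.1)]^q Γ(F, c.U.1))) :
    θ.iso.hom.app c.U.1 ((D.loc q c.U).symm (exteriorPower.map q c.T.toLinearMap w)) =
      tg (C.K.X q) (c.E q) ((C.loc q c.U).symm w) := by
  let φ : Γ(D.K.X q, c.U.1) →ₗ[Γ(X, c.U.1)] Γ(CohB1.tensorMod (C.K.X q) (CohB1.tensorPow L q), c.U.1) :=
    { toFun := θ.iso.hom.app c.U.1, map_add' := map_add _,
      map_smul' := fun r x => Scheme.Modules.Hom.app_smul θ.iso.hom r x }
  have h : φ ∘ₗ (D.loc q c.U).symm.toLinearMap ∘ₗ exteriorPower.map q c.T.toLinearMap =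
      tg (C.K.X q) (c.E q) ∘ₗ (C.loc q c.U).symm.toLinearMap := by
    refine exteriorPower.linearMap_ext ?_
    ext f
    simp only [LinearMap.compAlternatingMap_apply, LinearMap.comp_apply, exteriorPower.map_apply_ιMulti,
      LinearEquiv.coe_coe]
    exact θ.rule c.U f fun _ => c.e
  exact LinearMap.congr_fun h w

/-- The differential of the twisted complex in the chart. -/
theorem Chart.δ_apply (D : KoszSh.Cx (CohB1.tensorMod F L) t) (q : ℕ)
    (w : ↥(⋀[Γ(X, c.U.1)]^(q + 1) Γ(F, c.U.1))) :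
    (D.K.d (q + 1) q).app c.U.1 ((D.loc (q + 1) c.U).symm (exteriorPower.map (q + 1) c.T.toLinearMap w)) =
      (D.loc q c.U).symm (exteriorPower.map q c.T.toLinearMap (Algebra.d (c.t' t) q w)) := by
  refine (D.loc q c.U).injective ?_
  rw [Sections.d_app, LinearEquiv.apply_symm_apply, LinearEquiv.apply_symm_apply, d_map]
  rfl

/-- The differential of the complex in the chart. -/
theorem Chart.d_apply (htri : KoszTw.TwistTriangle s lam t) (C : KoszSh.Cx F s) (q : ℕ)
    (w : ↥(⋀[Γ(X, c.U.1)]^(q + 1) Γ(F, c.U.1))) :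
    (C.K.d (q + 1) q).app c.U.1 ((C.loc (q + 1) c.U).symm w) =
      (C.loc q c.U).symm (c.a lam • Algebra.d (c.t' t) q w) := by
  refine (C.loc q c.U).injective ?_
  rw [Sections.d_app, LinearEquiv.apply_symm_apply, LinearEquiv.apply_symm_apply, c.secForm_eq htri, d_smul]

theorem Chart.exists_eq (D : KoszSh.Cx (CohB1.tensorMod F L) t) (q : ℕ) (x : Γ(D.K.X q, c.U.1)) :
    ∃ w, (D.loc q c.U).symm (exteriorPower.map q c.T.toLinearMap w) = x := by
  obtain ⟨w, hw⟩ := map_surjective_of_equiv c.T q (D.loc q c.U x)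
  exact ⟨w, by rw [hw, LinearEquiv.symm_apply_apply]⟩

/-- A morphism out of a module vanishes if it vanishes on charts. -/
theorem hom_eq_zero {M N : X.Modules} (hF : FlatMod.IsFinLocFree F) (hL : PicF.IsInvertible L) {φ : M ⟶ N}
    (h : ∀ (c : Chart F L) (m : Γ(M, c.U.1)), φ.app c.U.1 m = 0) : φ = 0 := by
  refine Scheme.Modules.hom_ext _ _ fun V => ?_
  ext m
  refine Modules.TensorSec.section_ext _ _ _ fun x hx => ?_
  obtain ⟨c, hxc, hcV⟩ := exists_chart hF hL hx
  refine ⟨c.U.1, hcV, hxc, ?_⟩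
  rw [← Modules.TensorSec.app_rs, h]
  exact (map_zero _).symm

theorem kernelSubobject_eq (hF : FlatMod.IsFinLocFree F) (hL : PicF.IsInvertible L) [Mono lam]
    (htri : KoszTw.TwistTriangle s lam t) {q : ℕ} (θ : KoszTw.CxDecData C D (q + 1)) :
    kernelSubobject (θ.iso.hom ≫ KoszTw.tensorMap (C.K.d (q + 1) q) (𝟙 (CohB1.tensorPow L (q + 1)))) =
      kernelSubobject (D.K.d (q + 1) q) := by
  have key : ∀ (c : Chart F L) (x : Γ(D.K.X (q + 1), c.U.1)),
      (θ.iso.hom ≫ KoszTw.tensorMap (C.K.d (q + 1) q) (𝟙 (CohB1.tensorPow L (q + 1)))).app c.U.1 x = 0 ↔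
        (D.K.d (q + 1) q).app c.U.1 x = 0 := by
    intro c x
    obtain ⟨w, rfl⟩ := c.exists_eq D (q + 1) x
    rw [Scheme.Modules.Hom.comp_app, CategoryTheory.comp_apply, c.θ_apply, c.δ_apply]
    have h1 : (KoszTw.tensorMap (C.K.d (q + 1) q) (𝟙 (CohB1.tensorPow L (q + 1)))).app c.U.1
        (tg (C.K.X (q + 1)) (c.E (q + 1)) ((C.loc (q + 1) c.U).symm w)) =
        tg (C.K.X q) (c.E (q + 1)) ((C.loc q c.U).symm (c.a lam • Algebra.d (c.t' t) q w)) := by
      rw [tg_apply, KoszTw.tensorMap_tmul, c.d_apply htri]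
      rfl
    rw [h1, map_eq_zero_iff _ (tg_injective (c.isGen_E _)),
      LinearEquiv.map_eq_zero_iff, LinearEquiv.map_eq_zero_iff,
      map_eq_zero_iff _ (map_injective_of_equiv c.T q)]
    exact ⟨fun h => c.smul_eq_zero q h, fun h => by rw [h, smul_zero]⟩
  have hker : ∀ {M N N' : X.Modules} (A : M ⟶ N) (B : M ⟶ N'),
      (∀ (c : Chart F L) (x : Γ(M, c.U.1)), A.app c.U.1 x = 0 → B.app c.U.1 x = 0) → kernel.ι A ≫ B = 0 :=
    fun {M N N'} A B h => hom_eq_zero hF hL fun c m => h c _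
      (congr(($(kernel.condition A)).app c.U.1 m))
  refine le_antisymm ?_ ?_ <;> refine le_kernelSubobject _ _ ?_ <;>
    rw [← kernelSubobject_arrow, Category.assoc]
  · rw [hker _ _ fun c x => (key c x).1, comp_zero]
  · rw [hker _ _ fun c x => (key c x).2, comp_zero]

/-- An image lies in another as soon as sections do on charts, locally. -/
theorem imageSubobject_le {M M' N : X.Modules} (hF : FlatMod.IsFinLocFree F) (hL : PicF.IsInvertible L)
    (A : M ⟶ N) (B : M' ⟶ N)
    (h : ∀ (c : Chart F L) (m : Γ(M, c.U.1)), ∀ x ∈ c.U.1, ∃ (W : X.Opens) (hW : W ≤ c.U.1) (m' : Γ(M', W)),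
      x ∈ W ∧ B.app W m' = rs N hW (A.app c.U.1 m)) :
    imageSubobject A ≤ imageSubobject B := by
  have hB : B ≫ cokernel.π (imageSubobject B).arrow = 0 := by
    refine (congrArg (· ≫ cokernel.π (imageSubobject B).arrow) (imageSubobject_arrow_comp B).symm).trans ?_
    simp only [Category.assoc, cokernel.condition, comp_zero]
  have hzero : A ≫ cokernel.π (imageSubobject B).arrow = 0 := hom_eq_zero hF hL fun c m => by
    refine Modules.TensorSec.section_ext _ _ _ fun x hx => ?_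
    obtain ⟨W, hW, m', hxW, hm'⟩ := h c m x hx
    refine ⟨W, hW, hxW, ?_⟩
    rw [Scheme.Modules.Hom.comp_app, CategoryTheory.comp_apply, ← Modules.TensorSec.app_rs, ← hm']
    refine Eq.trans ?_ (map_zero _).symm
    exact congr(($hB).app W m')
  exact Limits.imageSubobject_le A (Abelian.monoLift _ A hzero) (Abelian.monoLift_comp _ A hzero)

theorem unitorR_inv_app (M : X.Modules) {U : X.Opens} (x : Γ(M, U)) :
    (SecTwist.unitorR M).inv.app U x =
      SecTwist.tmul M (Coh.structureModule X) U x (TensorMod.Gen.one X U) := by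
  have h1 : (SecTwist.unitorR M).hom.app U
      (SecTwist.tmul M (Coh.structureModule X) U x (TensorMod.Gen.one X U)) = x :=
    (SecTwist.unitorR_tmul M U x 1).trans (one_smul Γ(X, U) x)
  refine Eq.trans (congrArg ((SecTwist.unitorR M).inv.app U) h1.symm) ?_
  exact congr(($((SecTwist.unitorR M).hom_inv_id)).app U
    (SecTwist.tmul M (Coh.structureModule X) U x (TensorMod.Gen.one X U)))

theorem imageSubobject_eq (hF : FlatMod.IsFinLocFree F) (hL : PicF.IsInvertible L)
    (htri : KoszTw.TwistTriangle s lam t) {q : ℕ} (θ : KoszTw.CxDecData C D q) :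
    imageSubobject (KoszTw.tensorMap (KoszTw.tensorMap (C.K.d (q + 1) q) (𝟙 (CohB1.tensorPow L q))) (𝟙 L)) =
      imageSubobject ((SecTwist.unitorR (D.K.X (q + 1))).inv ≫ KoszTw.tensorMap (D.K.d (q + 1) q) lam ≫
        KoszTw.tensorMap θ.iso.hom (𝟙 L)) := by
  have key : ∀ (c : Chart F L) (w : ↥(⋀[Γ(X, c.U.1)]^(q + 1) Γ(F, c.U.1))),
      (KoszTw.tensorMap (KoszTw.tensorMap (C.K.d (q + 1) q) (𝟙 (CohB1.tensorPow L q))) (𝟙 L)).app c.U.1
        (tg _ c.e (tg _ (c.E q) ((C.loc (q + 1) c.U).symm w))) =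
      ((SecTwist.unitorR (D.K.X (q + 1))).inv ≫ KoszTw.tensorMap (D.K.d (q + 1) q) lam ≫
        KoszTw.tensorMap θ.iso.hom (𝟙 L)).app c.U.1
        ((D.loc (q + 1) c.U).symm (exteriorPower.map (q + 1) c.T.toLinearMap w)) := by
    intro c w
    rw [tg_apply, tg_apply, KoszTw.tensorMap_tmul, KoszTw.tensorMap_tmul, c.d_apply htri,
      Scheme.Modules.Hom.comp_app, Scheme.Modules.Hom.comp_app, CategoryTheory.comp_apply,
      CategoryTheory.comp_apply, unitorR_inv_app, KoszTw.tensorMap_tmul, KoszTw.tensorMap_tmul, c.δ_apply,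
      c.θ_apply θ]
    set z := (C.loc q c.U).symm (Algebra.d (c.t' t) q w)
    have h1 : lam.app c.U.1 (TensorMod.Gen.one X c.U.1) = c.a lam • c.e :=
      (c.lam_eq lam (1 : Γ(X, c.U.1))).trans (by rw [one_mul])
    have h2 : (C.loc q c.U).symm (c.a lam • Algebra.d (c.t' t) q w) = c.a lam • z := map_smul _ _ _
    rw [h1, h2]
    show tg _ c.e (tg _ (c.E q) (c.a lam • z)) =
      (SecTwist.tmul _ L c.U.1 (tg _ (c.E q) z) (c.a lam • c.e) : Γ(CohB1.tensorMod _ L, c.U.1))
    rw [map_smul, map_smul, tg_apply, ← one_smul Γ(X, c.U.1) (tg _ (c.E q) z),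
      Ample.GenLocus.tmul_smul, one_mul, one_smul]
    rfl
  refine le_antisymm (imageSubobject_le hF hL _ _ fun c m x hx => ?_)
    (imageSubobject_le hF hL _ _ fun c m x hx => ?_)
  · obtain ⟨u, rfl⟩ := tg_surjective c.gen m
    obtain ⟨z, rfl⟩ := tg_surjective (c.isGen_E q) u
    obtain ⟨w, rfl⟩ := (C.loc (q + 1) c.U).symm.surjective z
    exact ⟨c.U.1, le_rfl, _, hx, (key c w).symm.trans (TensorMod.Dual.rs_self _ _ _).symm⟩
  · obtain ⟨w, rfl⟩ := c.exists_eq D (q + 1) m
    exact ⟨c.U.1, le_rfl, _, hx, (key c w).trans (TensorMod.Dual.rs_self _ _ _).symm⟩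

end Groth.Agent.Lib.KoszulSh.Twist
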