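import Groth.Agent.H20.CMRegular
import Groth.Agent.H26.CISpread

/-!
# Regular sequences from heights in Cohen–Macaulay rings, spread to a basic open
-/

set_option autoImplicit false
universe u

open RingTheory.Sequence IsLocalRing Groth.Agent.H26.CISpread

namespace Groth.Agent.Lib.KoszulSh.Spread

/-- An ideal of height at least `c` cuts the dimension by at least `c`. -/
theorem ringKrullDim_quotient_add_le {R : Type u} [CommRing R] [IsNoetherianRing R] [IsLocalRing R]
    (I : Ideal R) (hI : I ≠ ⊤) (c : ℕ) (hc : (c : ℕ∞) ≤ I.height) :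
    ringKrullDim (R ⧸ I) + c ≤ ringKrullDim R := by
  haveI : Nontrivial (R ⧸ I) := Ideal.Quotient.nontrivial_iff.2 hI
  rw [ringKrullDim_quotient]
  have key : ∀ l : LTSeries (PrimeSpectrum.zeroLocus (I : Set R)),
      ((l.length + c : ℕ) : WithBot ℕ∞) ≤ ringKrullDim R := fun l => by
    have hP : (c : ℕ∞) ≤ Order.height (l.head).1 := by
      refine hc.trans ?_
      haveI := (l.head).1.isPrime
      refine (Ideal.height_mono (I := I) (J := (l.head).1.asIdeal) (l.head).2).trans (le_of_eq ?_)
      exact PrimeSpectrum.height_eq_orderHeight _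
    obtain ⟨p, hp, hpc⟩ := Order.exists_series_of_le_height _ hP
    let s := p.smash (l.map Subtype.val fun _ _ h => h) (by simpa [LTSeries.head_map] using hp)
    have := Order.LTSeries.length_le_krullDim s
    simpa [s, hpc, ringKrullDim, add_comm] using this
  haveI : Nonempty (PrimeSpectrum.zeroLocus (I : Set R)) := by
    obtain ⟨m, hm, hIm⟩ := I.exists_le_maximal hI
    exact ⟨⟨⟨m, hm.isPrime⟩, hIm⟩⟩
  have hfin : ringKrullDim R ≠ ⊤ := (ringKrullDim_lt_top (R := R)).ne
  haveI : FiniteDimensionalOrder (PrimeSpectrum.zeroLocus (I : Set R)) :=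
    Order.finiteDimensionalOrder_iff_krullDim_ne_bot_and_top.2
      ⟨(Order.krullDim_nonneg.trans_lt' (WithBot.bot_lt_coe _)).ne', ne_top_of_le_ne_top hfin
        (Order.krullDim_le_of_strictMono Subtype.val (Subtype.strictMono_coe _))⟩
  rw [Order.krullDim_eq_length_of_finiteDimensionalOrder]
  simpa using key (LTSeries.longestOf _)

/-- Elements generating an ideal of height at least their number in a Cohen–Macaulay local ring form a
weakly regular sequence. -/
theorem isWeaklyRegular_of_height {R : Type u} [CommRing R] [LocCoh.IsCohenMacaulayLocalRing R]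
    {c : ℕ} (f : Fin c → R) (hI : Ideal.span (Set.range f) ≠ ⊤)
    (hc : (c : ℕ∞) ≤ (Ideal.span (Set.range f)).height) : IsWeaklyRegular R (List.ofFn f) := by
  have hofList : Ideal.ofList (List.ofFn f) = Ideal.span (Set.range f) := by
    rw [Ideal.ofList]; congr 1; ext x; simp [List.mem_ofFn]
  refine (H20.CMRegular.isRegular_of_ringKrullDim_le (List.ofFn f) (fun r hr => ?_) ?_).toIsWeaklyRegular
  · exact IsLocalRing.le_maximalIdeal hI (hofList ▸ Ideal.subset_span hr)
  · rw [List.length_ofFn, hofList]
    exact ringKrullDim_quotient_add_le _ hI c hc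

/-- Weakly regular at a prime implies weakly regular away from some element outside it. -/
theorem exists_away {B : Type u} [CommRing B] [IsNoetherianRing B] (p : Ideal B) [p.IsPrime]
    (fs : List B) (h : IsWeaklyRegular (Localization.AtPrime p) (fs.map (algebraMap B (Localization.AtPrime p)))) :
    ∃ g ∉ p, ∀ (S : Type u) [CommRing S] [Algebra B S] [IsLocalization.Away g S],
      IsWeaklyRegular S (fs.map (algebraMap B S)) := by
  obtain ⟨g, hg, hq⟩ := H26.CISpread.exists_weaklyRegular_nhd p fs h
  refine ⟨g, hg, fun S _ _ _ => ⟨fun i hi => ?_⟩⟩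
  rw [isSMulRegular_quotient_iff, ← List.map_take, ← Ideal.map_ofList, List.getElem_map]
  intro z hz
  have hi' : i < fs.length := by simpa using hi
  set J := Ideal.ofList (fs.take i)
  obtain ⟨a, s, rfl⟩ := IsLocalization.exists_mk'_eq (Submonoid.powers g) z
  have hz' : algebraMap B S (fs[i] * a) ∈ J.map (algebraMap B S) := by
    have := Ideal.mul_mem_right (algebraMap B S (s : B)) _ hz
    rwa [mul_assoc, IsLocalization.mk'_spec, ← map_mul] at this
  rw [IsLocalization.algebraMap_mem_map_algebraMap_iff (Submonoid.powers g)] at hz'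
  obtain ⟨_, ⟨m, rfl⟩, hm⟩ := hz'
  suffices hrad : g ∈ (J.colon {a}).radical by
    obtain ⟨k, hk⟩ := hrad
    rw [IsLocalization.mk'_mem_iff, IsLocalization.algebraMap_mem_map_algebraMap_iff (Submonoid.powers g)]
    exact ⟨g ^ k, ⟨k, rfl⟩, by simpa [Submodule.mem_colon_singleton] using hk⟩
  rw [Ideal.radical_eq_sInf, Submodule.mem_sInf]
  rintro q ⟨hle, hqp⟩
  by_contra hgq
  have hreg := (isSMulRegular_quotient_iff _ _).1
    ((hq q hgq).regular_mod_prev i (by simpa using hi')) (algebraMap B _ a)
  rw [← List.map_take, ← Ideal.map_ofList, List.getElem_map, ← map_mul] at hreg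
  have h2 := hreg ((IsLocalization.algebraMap_mem_map_algebraMap_iff (Ideal.primeCompl q) _ J _).2
    ⟨g ^ m, fun hm' => hgq (hqp.mem_of_pow_mem m hm'), hm⟩)
  rw [IsLocalization.algebraMap_mem_map_algebraMap_iff (Ideal.primeCompl q)] at h2
  obtain ⟨t, htq, hta⟩ := h2
  exact htq (hle (by simpa [Submodule.mem_colon_singleton] using hta))

end Groth.Agent.Lib.KoszulSh.Spread
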