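import Groth.Prelude.Def_KoszulSh
import Mathlib.LinearAlgebra.CliffordAlgebra.Contraction
import Mathlib.RingTheory.Regular.RegularSequence

/-!
# The Koszul complex of a form in the exterior algebra

A form taking a weakly regular sequence as values on a basis has an exact Koszul complex in positive
degrees.
-/

set_option autoImplicit false
universe u

open ExteriorAlgebra

namespace Groth.Agent.Lib.KoszulSh.Algebra

variable {R : Type u} [CommRing R] {M : Type u} [AddCommGroup M] [Module R M]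

/-- Contraction with a form, the Koszul differential. -/
noncomputable abbrev D (φ : Module.Dual R M) : ExteriorAlgebra R M →ₗ[R] ExteriorAlgebra R M :=
  CliffordAlgebra.contractLeft φ

theorem D_ι_mul (φ : Module.Dual R M) (a : M) (x : ExteriorAlgebra R M) :
    D φ (ι R a * x) = φ a • x - ι R a * D φ x :=
  CliffordAlgebra.contractLeft_ι_mul φ a x

theorem D_one (φ : Module.Dual R M) : D φ (1 : ExteriorAlgebra R M) = 0 :=
  CliffordAlgebra.contractLeft_one (Q := (0 : QuadraticForm R M)) φ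

/-- Contraction on decomposable elements is `dGen`. -/
theorem D_ιMulti (φ : Module.Dual R M) : ∀ (p : ℕ) (e : Fin (p + 1) → M),
    D φ (ιMulti R (p + 1) e) =
      ∑ i : Fin (p + 1), ((-1 : R) ^ (i : ℕ) * φ (e i)) • ιMulti R p fun j => e (i.succAbove j) := by
  intro p
  induction p with
  | zero =>
    intro e
    simp [ιMulti_apply, D, CliffordAlgebra.contractLeft_ι, ExteriorAlgebra.ι, Algebra.algebraMap_eq_smul_one]
  | succ p ih =>
    intro e
    rw [ιMulti_succ_apply, D_ι_mul, ih, Fin.sum_univ_succ (n := p + 1), Finset.mul_sum, sub_eq_add_neg,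
      ← Finset.sum_neg_distrib]
    congr 1
    · simp [Matrix.vecTail, Fin.succAbove_zero, Function.comp_def]
    · refine Finset.sum_congr rfl fun i _ => ?_
      rw [ιMulti_succ_apply (fun j => e ((Fin.succ i).succAbove j)), mul_smul_comm, Fin.val_succ,
        Fin.succ_succAbove_zero]
      simp [Matrix.vecTail, Function.comp_def, Fin.succ_succAbove_succ, pow_succ, neg_smul]

/-- The contraction sends `⋀^(q+1)` to `⋀^q` for any submodule of vectors. -/
theorem D_mem_pow (φ : Module.Dual R M) (W : Submodule R M) :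
    ∀ (q : ℕ) {x : ExteriorAlgebra R M}, x ∈ W.map (ι R) ^ (q + 1) → D φ x ∈ W.map (ι R) ^ q := by
  intro q
  induction q with
  | zero =>
    intro x hx
    rw [pow_one] at hx
    obtain ⟨a, -, rfl⟩ := hx
    rw [pow_zero, ← mul_one (ι R a), D_ι_mul, D_one, mul_zero, sub_zero]
    exact Submodule.smul_mem _ _ (Submodule.one_le.1 le_rfl)
  | succ q ih =>
    intro x hx
    rw [pow_succ'] at hx
    refine Submodule.mul_induction_on hx (fun a ha b hb => ?_) fun a b ha hb => ?_
    · obtain ⟨a, haW, rfl⟩ := ha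
      rw [D_ι_mul]
      refine Submodule.sub_mem _ (Submodule.smul_mem _ _ hb) ?_
      rw [pow_succ']
      exact Submodule.mul_mem_mul ⟨a, haW, rfl⟩ (ih hb)
    · rw [map_add]; exact Submodule.add_mem _ ha hb

/-- A contraction killing `W` kills its powers. -/
theorem D_eq_zero_of_pow {ε : Module.Dual R M} {W : Submodule R M} (hε : ∀ a ∈ W, ε a = 0) :
    ∀ (q : ℕ) {x : ExteriorAlgebra R M}, x ∈ W.map (ι R) ^ q → D ε x = 0 := by
  intro q
  induction q with
  | zero =>
    intro x hx
    rw [pow_zero, Submodule.one_eq_span, Submodule.mem_span_singleton] at hx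
    obtain ⟨r, rfl⟩ := hx
    rw [map_smul, D_one, smul_zero]
  | succ q ih =>
    intro x hx
    rw [pow_succ'] at hx
    refine Submodule.mul_induction_on hx (fun a ha b hb => ?_) fun a b ha hb => ?_
    · obtain ⟨a, haW, rfl⟩ := ha
      rw [D_ι_mul, hε a haW, zero_smul, ih hb, mul_zero, sub_zero]
    · rw [map_add, ha, hb, add_zero]

/-- Splitting off a vector from a power. -/
theorem exists_split {W : Submodule R M} (e : M) : ∀ (q : ℕ) {x : ExteriorAlgebra R M},
    x ∈ (W ⊔ R ∙ e).map (ι R) ^ (q + 1) →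
      ∃ u ∈ W.map (ι R) ^ (q + 1), ∃ v ∈ W.map (ι R) ^ q, x = u + ι R e * v := by
  intro q
  induction q with
  | zero =>
    intro x hx
    rw [pow_one] at hx
    obtain ⟨a, ha, rfl⟩ := hx
    obtain ⟨w, hw, _, hs, rfl⟩ := Submodule.mem_sup.1 ha
    obtain ⟨r, rfl⟩ := Submodule.mem_span_singleton.1 hs
    refine ⟨ι R w, by rw [pow_one]; exact ⟨w, hw, rfl⟩, r • 1,
      by rw [pow_zero]; exact Submodule.smul_mem _ _ (Submodule.one_le.1 le_rfl), ?_⟩
    simp
  | succ q ih =>
    intro x hx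
    rw [pow_succ'] at hx
    refine Submodule.mul_induction_on hx (fun a ha b hb => ?_) fun a b ha hb => ?_
    · obtain ⟨a, ha', rfl⟩ := ha
      obtain ⟨w, hw, _, hs, rfl⟩ := Submodule.mem_sup.1 ha'
      obtain ⟨r, rfl⟩ := Submodule.mem_span_singleton.1 hs
      obtain ⟨u, hu, v, hv, rfl⟩ := ih hb
      have hwe : ι R w * (ι R e * v) = -(ι R e * (ι R w * v)) := by
        rw [← mul_assoc, ← mul_assoc, eq_neg_of_add_eq_zero_left (ι_add_mul_swap w e), neg_mul]
      refine ⟨ι R w * u, by rw [pow_succ']; exact Submodule.mul_mem_mul ⟨w, hw, rfl⟩ hu,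
        r • u - ι R w * v, Submodule.sub_mem _ (Submodule.smul_mem _ _ hu)
          (by rw [pow_succ']; exact Submodule.mul_mem_mul ⟨w, hw, rfl⟩ hv), ?_⟩
      have hee : ι R e * (ι R e * v) = 0 := by rw [← mul_assoc, ι_sq_zero, zero_mul]
      simp only [map_add, map_smul, add_mul, mul_add, mul_sub, smul_mul_assoc, mul_smul_comm, hee,
        smul_zero, hwe]
      abel
    · obtain ⟨u, hu, v, hv, rfl⟩ := ha
      obtain ⟨u', hu', v', hv', rfl⟩ := hb
      exact ⟨u + u', Submodule.add_mem _ hu hu', v + v', Submodule.add_mem _ hv hv', by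
        rw [mul_add]; abel⟩

variable {n : ℕ} (b : Module.Basis (Fin n) R M) (φ : Module.Dual R M)

/-- The span of the first `j` basis vectors. -/
def W (j : ℕ) : Submodule R M := Submodule.span R (b '' {i | (i : ℕ) < j})

theorem W_succ {j : ℕ} (hj : j < n) : W b (j + 1) = W b j ⊔ R ∙ b ⟨j, hj⟩ := by
  rw [W, W, ← Submodule.span_union, ← Set.image_singleton, ← Set.image_union]
  congr 2
  ext i
  simp only [Set.mem_setOf_eq, Set.mem_union, Set.mem_singleton_iff, Fin.ext_iff]
  omega

theorem W_le (j : ℕ) : (W b j).map (ι R) ≤ (W b (j + 1)).map (ι R) :=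
  Submodule.map_mono (Submodule.span_mono (Set.image_mono fun _ hi => Nat.lt_succ_of_lt hi))

theorem pow_W_le (j q : ℕ) : (W b j).map (ι R) ^ q ≤ (W b (j + 1)).map (ι R) ^ q := by
  induction q with
  | zero => rw [pow_zero, pow_zero]
  | succ q ih => rw [pow_succ, pow_succ]; exact mul_le_mul' ih (W_le b j)

theorem W_top : W b n = ⊤ := by
  rw [W, show {i : Fin n | (i : ℕ) < n} = Set.univ from Set.eq_univ_of_forall fun i => i.2,
    Set.image_univ, b.span_eq]

/-- The values of the form on the first `j` basis vectors generate the boundaries in degree zero. -/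
theorem mem_ideal_iff {j : ℕ} {r : R} :
    r ∈ Ideal.span ((fun i => φ (b i)) '' {i | (i : ℕ) < j}) ↔
      ∃ w ∈ (W b j).map (ι R) ^ 1, D φ w = r • (1 : ExteriorAlgebra R M) := by
  have key : ∀ a : M, D φ (ι R a) = φ a • (1 : ExteriorAlgebra R M) := fun a => by
    rw [← mul_one (ι R a), D_ι_mul, D_one, mul_zero, sub_zero]
  have himg : Ideal.span ((fun i => φ (b i)) '' {i | (i : ℕ) < j}) = (W b j).map φ := by
    rw [W, Submodule.map_span, Set.image_image]
  rw [himg, pow_one]
  constructor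
  · rintro ⟨a, ha, rfl⟩
    exact ⟨ι R a, ⟨a, ha, rfl⟩, key a⟩
  · rintro ⟨w, ⟨a, ha, rfl⟩, hw⟩
    rw [key, ← Algebra.algebraMap_eq_smul_one, ← Algebra.algebraMap_eq_smul_one] at hw
    exact ⟨a, ha, (ExteriorAlgebra.algebraMap_leftInverse M).injective hw⟩

theorem exact_aux :
    ∀ j, j ≤ n → (∀ i : Fin n, (i : ℕ) < j → ∀ r : R,
      φ (b i) * r ∈ Ideal.span ((fun i => φ (b i)) '' {k | (k : ℕ) < (i : ℕ)}) →
        r ∈ Ideal.span ((fun i => φ (b i)) '' {k | (k : ℕ) < (i : ℕ)})) → ∀ (q : ℕ) {x : ExteriorAlgebra R M}, x ∈ (W b j).map (ι R) ^ (q + 1) → D φ x = 0 →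
      ∃ y ∈ (W b j).map (ι R) ^ (q + 2), D φ y = x := by
  intro j
  induction j with
  | zero =>
    intro _ _ q x hx _
    have h0 : (W b 0).map (ι R) = ⊥ := by
      rw [W, show {i : Fin n | (i : ℕ) < 0} = ∅ from Set.eq_empty_of_forall_notMem fun i hi => Nat.not_lt_zero _ hi,
        Set.image_empty, Submodule.span_empty, Submodule.map_bot]
    rw [h0, Submodule.bot_pow (Nat.succ_ne_zero q)] at hx
    exact ⟨0, Submodule.zero_mem _, by rw [map_zero, (Submodule.mem_bot R).1 hx]⟩
  | succ j ih =>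
    intro hj hreg q x hx hdx
    have hreg' := fun (i : Fin n) (hi : (i : ℕ) < j) => hreg i (Nat.lt_succ_of_lt hi)
    have hjn : j < n := hj
    set e := b ⟨j, hjn⟩
    obtain ⟨u, hu, v, hv, rfl⟩ := exists_split (W := W b j) e q
      (by rwa [← W_succ b hjn])
    let ε : Module.Dual R M := b.coord ⟨j, hjn⟩
    have hε : ∀ a ∈ W b j, ε a = 0 := fun a ha => by
      refine (Submodule.span_le (p := LinearMap.ker ε)).2 ?_ ha
      rintro _ ⟨i, hi, rfl⟩
      have : i ≠ ⟨j, hjn⟩ := fun h => absurd hi (by simp [h])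
      simp [ε, this]
    have hεe : ε e = 1 := by simp [ε, e]
    have hdec : ∀ (k : ℕ) (a c : ExteriorAlgebra R M), a ∈ (W b j).map (ι R) ^ k →
        D ε c = 0 → a + ι R e * c = 0 → c = 0 := by
      intro k a c ha hc h
      have := congrArg (D ε) h
      rwa [map_add, map_zero, D_eq_zero_of_pow hε k ha, D_ι_mul, hεe, hc, mul_zero, sub_zero,
        one_smul, zero_add] at this
    rw [map_add, D_ι_mul] at hdx
    have h1 : D φ u + φ e • v ∈ (W b j).map (ι R) ^ q :=
      Submodule.add_mem _ (D_mem_pow φ _ q hu) (Submodule.smul_mem _ _ hv)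
    have hDv0 : D ε (D φ v) = 0 := by
      cases q with
      | zero =>
        rw [pow_zero, Submodule.one_eq_span, Submodule.mem_span_singleton] at hv
        obtain ⟨r, rfl⟩ := hv
        rw [map_smul, D_one, smul_zero, map_zero]
      | succ q => exact D_eq_zero_of_pow hε q (D_mem_pow φ _ q hv)
    have hdv : D φ v = 0 := by
      have hsum : (D φ u + φ e • v) + ι R e * (-D φ v) = 0 := by
        rw [mul_neg]; rw [← hdx]; abel
      exact neg_eq_zero.1 (hdec q _ _ h1 (by rw [map_neg, hDv0, neg_zero]) hsum)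
    rw [hdv, mul_zero, sub_zero] at hdx
    obtain ⟨w, hw, hdw⟩ : ∃ w ∈ (W b j).map (ι R) ^ (q + 1), D φ w = v := by
      cases q with
      | zero =>
        rw [pow_zero, Submodule.one_eq_span, Submodule.mem_span_singleton] at hv
        obtain ⟨r, rfl⟩ := hv
        refine (mem_ideal_iff b φ).1 (hreg ⟨j, hjn⟩ (Nat.lt_succ_self j) r ?_)
        refine (mem_ideal_iff b φ).2 ⟨-u, Submodule.neg_mem _ hu, ?_⟩
        rw [map_neg, mul_smul]
        exact neg_eq_of_add_eq_zero_right hdx
      | succ q => exact ih (Nat.le_of_succ_le hj) hreg' q hv hdv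
    obtain ⟨z, hz, hdz⟩ := ih (Nat.le_of_succ_le hj) hreg' q (x := u + φ e • w)
      (Submodule.add_mem _ hu (Submodule.smul_mem _ _ hw))
      (by rw [map_add, map_smul, hdw]; exact hdx)
    refine ⟨z - ι R e * w, Submodule.sub_mem _ (pow_W_le b j _ hz) ?_, ?_⟩
    · rw [pow_succ']
      refine Submodule.mul_mem_mul ⟨e, ?_, rfl⟩ (pow_W_le b j _ hw)
      exact Submodule.subset_span ⟨⟨j, hjn⟩, Nat.lt_succ_self j, rfl⟩
    · rw [map_sub, hdz, D_ι_mul, hdw]
      abel

/-- Weak regularity in terms of ideals. -/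
theorem mem_of_mul_mem_of_isWeaklyRegular {a : Fin n → R}
    (h : RingTheory.Sequence.IsWeaklyRegular R (List.ofFn a)) (j : Fin n) {r : R}
    (hr : a j * r ∈ Ideal.span (a '' {i | (i : ℕ) < (j : ℕ)})) :
    r ∈ Ideal.span (a '' {i | (i : ℕ) < (j : ℕ)}) := by
  have hj : (j : ℕ) < (List.ofFn a).length := by rw [List.length_ofFn]; exact j.2
  have h2 : Ideal.ofList ((List.ofFn a).take (j : ℕ)) • (⊤ : Submodule R R) =
      Ideal.span (a '' {i | (i : ℕ) < (j : ℕ)}) := by
    rw [smul_eq_mul, Ideal.mul_top, Ideal.ofList]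
    congr 1
    ext t
    simp only [Set.mem_setOf_eq, List.mem_take_iff_getElem, List.length_ofFn, List.getElem_ofFn,
      Set.mem_image]
    constructor
    · rintro ⟨i, hi, rfl⟩; exact ⟨⟨i, by omega⟩, by simp only; omega, rfl⟩
    · rintro ⟨i, hi, rfl⟩; exact ⟨i, by omega, rfl⟩
  have hreg := h.regular_mod_prev (j : ℕ) hj
  rw [List.getElem_ofFn] at hreg
  rw [← h2] at hr ⊢
  rw [← Submodule.Quotient.mk_eq_zero] at hr ⊢
  exact hreg.right_eq_zero_of_smul hr

/-- Exactness of the Koszul complex of a form with weakly regular values on a basis. -/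
theorem exact (hreg : RingTheory.Sequence.IsWeaklyRegular R (List.ofFn fun i => φ (b i))) (q : ℕ)
    {x : ExteriorAlgebra R M} (hx : x ∈ ⋀[R]^(q + 1) M) (hdx : D φ x = 0) :
    ∃ y ∈ ⋀[R]^(q + 2) M, D φ y = x := by
  have h := exact_aux b φ n le_rfl (fun j _ r hr => mem_of_mul_mem_of_isWeaklyRegular hreg j hr) q (x := x)
  rw [W_top, Submodule.map_top] at h
  exact h hx hdx

/-- The Koszul differential on exterior powers. -/
noncomputable def d (p : ℕ) : ↥(⋀[R]^(p + 1) M) →ₗ[R] ↥(⋀[R]^p M) :=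
  (D φ).restrict fun x hx => by
    have := D_mem_pow φ ⊤ p (x := x)
    rw [Submodule.map_top] at this
    exact this hx

theorem d_ιMulti (p : ℕ) (e : Fin (p + 1) → M) :
    d φ p (exteriorPower.ιMulti R (p + 1) e) = KoszSh.dGen φ p e := by
  refine Subtype.ext ?_
  refine (D_ιMulti φ p e).trans ?_
  rw [KoszSh.dGen, Submodule.coe_sum]
  rfl

include b in
theorem exact_d (hreg : RingTheory.Sequence.IsWeaklyRegular R (List.ofFn fun i => φ (b i))) (q : ℕ)
    {x : ↥(⋀[R]^(q + 1) M)} (hx : d φ q x = 0) : ∃ y, d φ (q + 1) y = x := by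
  obtain ⟨y, hy, hdy⟩ := exact b φ hreg q x.2 (congrArg Subtype.val hx)
  exact ⟨⟨y, hy⟩, Subtype.ext hdy⟩

end Groth.Agent.Lib.KoszulSh.Algebra
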