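import Groth.Agent.Lib.KoszulSh.Sections
import Groth.Agent.Lib.Modules.AffineHom

/-!
# Maps of terms of Koszul complexes induced by maps of modules
-/

set_option autoImplicit false
universe u

open CategoryTheory CategoryTheory.Limits AlgebraicGeometry Opposite TopologicalSpace

namespace Groth.Agent.Lib.KoszulSh.Functorial

open Groth.Agent.Lib
open Groth.Agent.Lib.TensorMod.Dual (rs rf rs_smul)
open Modules.AffineHom Modules.TensorSec

variable {X : Scheme.{u}} {E F : X.Modules} {s : E ⟶ Coh.structureModule X} {t : F ⟶ Coh.structureModule X}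

/-- Induction on sections through decomposables. -/
theorem loc_induction {p : ℕ} (C : KoszSh.Cx E s) (U : X.affineOpens) {P : Γ(C.K.X p, U.1) → Prop}
    (h₀ : P 0) (hadd : ∀ a b, P a → P b → P (a + b)) (hsmul : ∀ (r : Γ(X, U.1)) a, P a → P (r • a))
    (hι : ∀ e, P ((C.loc p U).symm (exteriorPower.ιMulti _ p e))) (x : Γ(C.K.X p, U.1)) : P x := by
  obtain ⟨w, rfl⟩ := (C.loc p U).symm.surjective x
  have hw : w ∈ Submodule.span Γ(X, U.1) (Set.range (exteriorPower.ιMulti Γ(X, U.1) p (M := Γ(E, U.1)))) := by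
    rw [exteriorPower.ιMulti_span]; trivial
  induction hw using Submodule.span_induction with
  | mem w hw => obtain ⟨e, rfl⟩ := hw; exact hι e
  | zero => rwa [map_zero]
  | add a b _ _ ha hb => rw [map_add]; exact hadd _ _ ha hb
  | smul r a _ ha => rw [map_smul]; exact hsmul _ _ ha

/-- The value on decomposables of the induced map. -/
def IsMap (C : KoszSh.Cx E s) (D : KoszSh.Cx F t) (f : E ⟶ F) (p : ℕ) (φ : C.K.X p ⟶ D.K.X p) : Prop :=
  ∀ (U : X.affineOpens) (e : Fin p → Γ(E, U.1)),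
    φ.app U.1 ((C.loc p U).symm (exteriorPower.ιMulti _ p e)) =
      (D.loc p U).symm (exteriorPower.ιMulti _ p fun j => f.app U.1 (e j))

theorem IsMap.unique {C : KoszSh.Cx E s} {D : KoszSh.Cx F t} {f : E ⟶ F} {p : ℕ}
    {φ ψ : C.K.X p ⟶ D.K.X p} (hφ : IsMap C D f p φ) (hψ : IsMap C D f p ψ) : φ = ψ := by
  refine hom_ext_affine fun U x => ?_
  refine loc_induction C U (P := fun x => φ.app U.1 x = ψ.app U.1 x) ?_ ?_ ?_ ?_ x
  · rw [map_zero, map_zero]
  · intro a b ha hb; rw [map_add, map_add, ha, hb]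
  · intro r a ha; rw [Scheme.Modules.Hom.app_smul, Scheme.Modules.Hom.app_smul, ha]
  · intro e; rw [hφ U e, hψ U e]

theorem exists_isMap (C : KoszSh.Cx E s) (D : KoszSh.Cx F t) (f : E ⟶ F) (p : ℕ) :
    ∃ φ, IsMap C D f p φ := by
  let fl : ∀ U : X.affineOpens, Γ(E, U.1) →ₗ[Γ(X, U.1)] Γ(F, U.1) := fun U =>
    { toFun := f.app U.1, map_add' := map_add _, map_smul' := fun r x => Scheme.Modules.Hom.app_smul f r x }
  let φ : ∀ U : X.affineOpens, Γ(C.K.X p, U.1) →ₗ[Γ(X, U.1)] Γ(D.K.X p, U.1) := fun U =>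
    (D.loc p U).symm.toLinearMap ∘ₗ exteriorPower.map p (fl U) ∘ₗ (C.loc p U).toLinearMap
  have hφe : ∀ (U : X.affineOpens) (e : Fin p → Γ(E, U.1)),
      φ U ((C.loc p U).symm (exteriorPower.ιMulti _ p e)) =
        (D.loc p U).symm (exteriorPower.ιMulti _ p fun j => f.app U.1 (e j)) := fun U e => by
    simp [φ, exteriorPower.map_apply_ιMulti, Function.comp_def, fl]
  obtain ⟨ψ, hψ⟩ := exists_hom_of_affine φ fun U V h m => by
    refine loc_induction C U (P := fun m => rs _ h (φ U m) = φ V (rs _ h m)) ?_ ?_ ?_ ?_ m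
    · simp only [map_zero, rs_zero]
    · intro a b ha hb; simp only [map_add, rs_add, ha, hb]
    · intro r a ha; rw [map_smul, rs_smul, rs_smul, map_smul, ha]
    · intro e
      rw [hφe]
      refine (D.loc_res p U V h _).trans ?_
      refine Eq.trans ?_ (congrArg (φ V) (C.loc_res p U V h e).symm)
      refine Eq.trans ?_ (hφe V _).symm
      refine congrArg _ (congrArg _ (funext fun j => ?_))
      exact (app_rs f h (e j)).symm
  exact ⟨ψ, fun U e => (hψ U _).trans (hφe U e)⟩

/-- The induced maps form the unique such map of complexes. -/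
theorem existsUnique_chainMap (C : KoszSh.Cx E s) (D : KoszSh.Cx F t) (f : E ⟶ F) (hf : f ≫ t = s) :
    ∃! φ : C.K ⟶ D.K, ∀ p, IsMap C D f p (φ.f p) := by
  choose φ hφ using exists_isMap C D f
  have hst : ∀ (U : X.Opens) (x : Γ(E, U)), KoszSh.secForm t U (f.app U x) = KoszSh.secForm s U x :=
    fun U x => by subst hf; rfl
  refine ⟨{ f := φ, comm' := ?_ }, hφ, fun ψ hψ => HomologicalComplex.Hom.ext (funext fun p => (hψ p).unique (hφ p))⟩
  rintro i j hij
  obtain rfl : j + 1 = i := hij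
  refine hom_ext_affine fun U x => ?_
  rw [Scheme.Modules.Hom.comp_app, Scheme.Modules.Hom.comp_app, CategoryTheory.comp_apply,
    CategoryTheory.comp_apply]
  refine loc_induction C U (P := fun x => (D.K.d (j + 1) j).app U.1 ((φ (j + 1)).app U.1 x) =
    (φ j).app U.1 ((C.K.d (j + 1) j).app U.1 x)) ?_ ?_ ?_ ?_ x
  · simp only [map_zero]
  · intro a b ha hb; simp only [map_add, ha, hb]
  · intro r a ha; simp only [Scheme.Modules.Hom.app_smul, ha]
  · intro e
    rw [hφ (j + 1) U e, D.rule, C.rule, KoszSh.dGen, KoszSh.dGen, map_sum, map_sum, map_sum]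
    refine Finset.sum_congr rfl fun i _ => ?_
    rw [map_smul, map_smul, Scheme.Modules.Hom.app_smul, hφ j U, hst]

end Groth.Agent.Lib.KoszulSh.Functorial
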